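import Cfsg.Agent.H643.Sd.Def
import Mathlib.GroupTheory.Index

/-!
# S4579, toral lemma: interface between TL-1 (characters) and TL-2 (automorphisms) (helper55)

* `TorConcl` : the conclusion of TL-1.
* `TorAut`   : the hypotheses of TL-2 on `U`, `T`.
* `Frames`   : a set `𝓜` of frame groups over `T` (helper158); `{⊤}` if not needed.
* `NCtx`     : a context `(Q, A)` which is normalised with respect to `(U, T)` and `𝓜`.
* `StRowOfToral`, `StRowOfToralSet` : the two versions of the theorem `row_of_toral`.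
-/

set_option autoImplicit false

namespace Cfsg.Agent.H55.Sd

open Cfsg Cfsg.Agent.H643.Sd

universe u

/-- **Conclusion of TL-1**: `Ind_B σ` and `Ind_U ψ` have exactly one common constituent; it has odd degree, lies in
the principal 2-block and is not real. -/
def TorConcl {S : Type u} [Group S] [Fintype S] (M : Ideal AlgInt) (B U : Subgroup S) (σ : B →* ℂˣ)
    (ψ : U →* ℂˣ) : Prop :=
  ∃ χ : IrrCharacter S, classInner (indFun B (fun b => (σ b : ℂ))) (χ : S → ℂ) ≠ 0 ∧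
    classInner (indFun U (fun u => (ψ u : ℂ))) (χ : S → ℂ) ≠ 0 ∧
    (∀ χ' : IrrCharacter S, classInner (indFun B (fun b => (σ b : ℂ))) (χ' : S → ℂ) ≠ 0 →
      classInner (indFun U (fun u => (ψ u : ℂ))) (χ' : S → ℂ) ≠ 0 → χ' = χ) ∧
    Odd (charDegree (χ : S → ℂ)) ∧ χ ∈ principalBlock M S ∧ ∃ g, ((χ : S → ℂ) g).im ≠ 0

/-- the `N`-conjugates of the restriction of `σ` to `T` (`N` normalises `T ≤ B`) -/
def conjSet {S : Type u} [Group S] (B T N : Subgroup S) (σ : B →* ℂˣ) : Set (T →* ℂˣ) :=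
  {τ | ∃ n ∈ N, ∀ (t : T) (h : n * (t : S) * n⁻¹ ∈ B), τ t = σ ⟨n * t * n⁻¹, h⟩}

/-- The hypotheses on `σ` in TL-1: trivial on `U`, of 2-power order, with an odd number of `N`-conjugates, and
`σ ^ 2 ≠ 1`. -/
structure TorChar {S : Type u} [Group S] (B U T N : Subgroup S) (σ : B →* ℂˣ) : Prop where
  triv : ∀ (u : S) (_ : u ∈ U) (h : u ∈ B), σ ⟨u, h⟩ = 1
  two : ∃ k : ℕ, ∀ b : B, σ b ^ 2 ^ k = 1
  odd : Odd (Nat.card (conjSet B T N σ))
  ne : ∃ b : B, σ b ^ 2 ≠ 1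

/-- the `T`-orbit of a linear character of `U` (`T` normalises `U`) -/
def torb {S : Type u} [Group S] (U T : Subgroup S) (ψ : U →* ℂˣ) : Set (U →* ℂˣ) :=
  {ψ' | ∃ t ∈ T, ∀ (u : U) (h : t * (u : S) * t⁻¹ ∈ U), ψ' u = ψ ⟨t * u * t⁻¹, h⟩}

/-- The hypotheses of TL-2: `U` is a Sylow `p`-subgroup of `S`, `p` odd, `N_S(U) = U T` with an abelian `p'`-group
`T`, and the centre of `S` is trivial. -/
structure TorAut {S : Type u} [Group S] (p : ℕ) (U T : Subgroup S) : Prop where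
  prime : p.Prime
  odd : p ≠ 2
  isP : IsPGroup p U
  index : ¬ p ∣ U.index
  norm : Subgroup.normalizer (U : Set S) = U ⊔ T
  comm : ∀ a ∈ T, ∀ b ∈ T, a * b = b * a
  cop : ¬ p ∣ Nat.card T
  cen : Subgroup.center S = ⊥

/-- A finite set `𝓜` of subgroups of odd index in `S` ("frame groups over `T`"), of odd cardinality and stable under
the automorphisms of `S` which normalise `T` (idea of helper158). For no frames take `𝓜 = {⊤}` (`frames_top`). -/
structure Frames {S : Type u} [Group S] (T : Subgroup S) (𝓜 : Set (Subgroup S)) : Prop where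
  odd : Odd (Nat.card 𝓜)
  index : ∀ M ∈ 𝓜, Odd M.index
  stab : ∀ α : MulAut S, (∀ t ∈ T, α t ∈ T) → ∀ M ∈ 𝓜, M.map α.toMonoidHom ∈ 𝓜

theorem frames_top {S : Type u} [Group S] (T : Subgroup S) : Frames T {(⊤ : Subgroup S)} where
  odd := by rw [Nat.card_unique]; exact odd_one
  index := by
    intro M hM
    rw [Set.mem_singleton_iff.1 hM, Subgroup.index_top]
    exact odd_one
  stab := by
    intro α _ M hM
    rw [Set.mem_singleton_iff.1 hM, Set.mem_singleton_iff]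
    exact Subgroup.map_top_of_surjective _ α.surjective

/-- The context `(Q, A)` is normalised with respect to `(U, T)`: `Q` contains the 2-elements of `T` and a Sylow
2-subgroup of `N_S(T)`, `Q` is contained in a member of `𝓜`, and `A` is generated by `Inn Q` and automorphisms which
normalise `U` and `T`. -/
structure NCtx {S : Type u} [Group S] (Q : Sylow 2 S) (A : Subgroup (MulAut S)) (U T : Subgroup S)
    (𝓜 : Set (Subgroup S)) : Prop where
  sylT : ∀ t ∈ T, (∃ k : ℕ, t ^ 2 ^ k = 1) → t ∈ (Q : Subgroup S)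
  frame : ∃ M ∈ 𝓜, (Q : Subgroup S) ≤ M
  sylN : Odd (((Q : Subgroup S) ⊓ Subgroup.normalizer (T : Set S)).relIndex (Subgroup.normalizer (T : Set S)))
  dec : ∀ a ∈ A, ∃ x ∈ (Q : Subgroup S), ∃ b ∈ A, a = MulAut.conj x * b ∧
    (∀ u ∈ U, b u ∈ U) ∧ ∀ t ∈ T, b t ∈ T

/-- The set `Ψ` of linear characters of `U` is stable under the automorphisms of `S` normalising `U` and `T`. -/
def PsiStable {S : Type u} [Group S] (U T : Subgroup S) (Ψ : Set (U →* ℂˣ)) : Prop :=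
  ∀ α : MulAut S, (∀ u ∈ U, α u ∈ U) → (∀ t ∈ T, α t ∈ T) → ∀ ψ ∈ Ψ, ∀ ψ' : U →* ℂˣ,
    (∀ (u : U) (h : α u ∈ U), ψ' u = ψ ⟨α u, h⟩) → ψ' ∈ Ψ

/-- The frame hypothesis: a linear character of `Q` which is real on `Q ∩ T` is real. -/
def RealOnT {S : Type u} [Group S] (U T : Subgroup S) (𝓜 : Set (Subgroup S)) : Prop :=
  ∀ (Q : Sylow 2 S) (A : Subgroup (MulAut S)), NCtx Q A U T 𝓜 → ∀ f : (Q : Subgroup S) →* ℂˣ,
    (∀ x : (Q : Subgroup S), (x : S) ∈ T → f x ^ 2 = 1) → ∀ x, f x ^ 2 = 1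

/-- **`row_of_toral`** (TL-2, main version): `htl` is TL-1 for `N = N_S(T)`. -/
def StRowOfToral : Prop :=
  ∀ {S : Type u} [Group S] [Fintype S] {p : ℕ} {U T : Subgroup S}, TorAut p U T →
    ∀ (Ψ : Set (U →* ℂˣ)), PsiStable U T Ψ → Odd (Nat.card (torb U T '' Ψ)) →
    ∀ (𝓜 : Set (Subgroup S)), Frames T 𝓜 → RealOnT U T 𝓜 →
    (∀ M : Ideal AlgInt, IsPModular 2 M → ∀ σ : ↥(U ⊔ T) →* ℂˣ,
      TorChar (U ⊔ T) U T (Subgroup.normalizer (T : Set S)) σ → ∀ ψ ∈ Ψ, TorConcl M (U ⊔ T) U σ ψ) →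
    Row S

/-- **`row_of_toral_set`** (TL-2, second version, for `PSU_n`, `n` even): the set of all common constituents of
`Ind_B σ` and the `Ind_U ψ`, `ψ ∈ Ψ`, has odd cardinality and all its members are of odd degree, in the principal
block and not real. `hext` may use that `σ` comes from an `A`-invariant `f : Q → ℂˣ`. -/
def StRowOfToralSet : Prop :=
  ∀ {S : Type u} [Group S] [Fintype S] {p : ℕ} {U T : Subgroup S}, TorAut p U T →
    ∀ (Ψ : Set (U →* ℂˣ)), PsiStable U T Ψ → ∀ (𝓜 : Set (Subgroup S)), Frames T 𝓜 → RealOnT U T 𝓜 →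
    (∀ M : Ideal AlgInt, IsPModular 2 M → ∀ σ : ↥(U ⊔ T) →* ℂˣ,
      TorChar (U ⊔ T) U T (Subgroup.normalizer (T : Set S)) σ →
      Odd (Nat.card {χ : IrrCharacter S // classInner (indFun (U ⊔ T) (fun b => (σ b : ℂ))) (χ : S → ℂ) ≠ 0 ∧
        ∃ ψ ∈ Ψ, classInner (indFun U (fun u => (ψ u : ℂ))) (χ : S → ℂ) ≠ 0}) ∧
      ∀ χ : IrrCharacter S, classInner (indFun (U ⊔ T) (fun b => (σ b : ℂ))) (χ : S → ℂ) ≠ 0 →
        (∃ ψ ∈ Ψ, classInner (indFun U (fun u => (ψ u : ℂ))) (χ : S → ℂ) ≠ 0) →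
        Odd (charDegree (χ : S → ℂ)) ∧ χ ∈ principalBlock M S ∧ ∃ g, ((χ : S → ℂ) g).im ≠ 0) →
    Row S

end Cfsg.Agent.H55.Sd
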