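import Cfsg.Agent.H55.Sd.Iface
import Cfsg.Agent.Solvable.SchurZassenhausConj

/-!
# S4579, TL-2: the normalisation of a context (helper55)
-/

set_option autoImplicit false

namespace Cfsg.Agent.H55.Sd

open Cfsg Cfsg.Agent.H643.Sd
open scoped Pointwise

universe u

/-! ### Sylow 2-subgroups of subgroups -/

section gen
variable {Γ : Type*} [Group Γ] [Finite Γ]

instance factTwo : Fact (Nat.Prime 2) := ⟨Nat.prime_two⟩

theorem exists_syl {H R₀ : Subgroup Γ} (hR₀ : IsPGroup 2 R₀) (hle : R₀ ≤ H) :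
    ∃ R : Subgroup Γ, R ≤ H ∧ R₀ ≤ R ∧ IsPGroup 2 R ∧ Odd (R.relIndex H) := by
  have h1 : IsPGroup 2 (R₀.subgroupOf H) :=
    hR₀.of_injective (Subgroup.subgroupOfEquivOfLe hle).toMonoidHom (Subgroup.subgroupOfEquivOfLe hle).injective
  obtain ⟨P, hP⟩ := h1.exists_le_sylow
  refine ⟨(P : Subgroup H).map H.subtype, Subgroup.map_subtype_le _, ?_, P.isPGroup'.map _, ?_⟩
  · intro x hx
    exact ⟨⟨x, hle hx⟩, hP hx, rfl⟩
  · have h2 : ((P : Subgroup H).map H.subtype).relIndex H = (P : Subgroup H).index := by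
      unfold Subgroup.relIndex Subgroup.subgroupOf
      rw [Subgroup.comap_map_eq_self_of_injective H.subtype_injective]
    rw [h2, ← Nat.not_even_iff_odd, even_iff_two_dvd]
    exact P.not_dvd_index

theorem exists_conj_le {H A R : Subgroup Γ} (hA : A ≤ H) (hA2 : IsPGroup 2 A) (hodd : Odd (A.relIndex H))
    (hR : R ≤ H) (hR2 : IsPGroup 2 R) : ∃ h ∈ H, ∀ r ∈ R, h⁻¹ * r * h ∈ A := by
  have h1 : IsPGroup 2 (A.subgroupOf H) :=
    hA2.of_injective (Subgroup.subgroupOfEquivOfLe hA).toMonoidHom (Subgroup.subgroupOfEquivOfLe hA).injective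
  have h1' : IsPGroup 2 (R.subgroupOf H) :=
    hR2.of_injective (Subgroup.subgroupOfEquivOfLe hR).toMonoidHom (Subgroup.subgroupOfEquivOfLe hR).injective
  have hnd : ¬ 2 ∣ (A.subgroupOf H).index := by
    rw [← even_iff_two_dvd, Nat.not_even_iff_odd]
    exact hodd
  let P : Sylow 2 H := h1.toSylow hnd
  have hPc : (P : Subgroup H) = A.subgroupOf H := h1.toSylow_coe hnd
  obtain ⟨P', hP'⟩ := h1'.exists_le_sylow
  obtain ⟨h, hh⟩ := MulAction.exists_smul_eq H P P'
  refine ⟨h, h.2, fun r hr => ?_⟩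
  have h2 : (⟨r, hR hr⟩ : H) ∈ (P' : Subgroup H) := hP' hr
  rw [← hh, Sylow.coe_subgroup_smul, Subgroup.mem_pointwise_smul_iff_inv_smul_mem] at h2
  have h3 : (MulAut.conj h)⁻¹ • (⟨r, hR hr⟩ : H) = h⁻¹ * ⟨r, hR hr⟩ * h := by
    rw [← map_inv, MulAut.smul_def, MulAut.conj_apply, inv_inv]
  rw [h3, hPc] at h2
  exact Subgroup.mem_subgroupOf.1 h2

/-- If `L = I K` then `|L : K| = |I : K ∩ I|`. -/
theorem relIndex_eq_of_mul {I K L : Subgroup Γ} (hIL : I ≤ L)
    (hL : ∀ l ∈ L, ∃ i ∈ I, ∃ k ∈ K, l = i * k) : K.relIndex L = K.relIndex I := by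
  apply le_antisymm
  · -- I / (K ∩ I) → L / K onto
    unfold Subgroup.relIndex
    have hsurj : Function.Surjective (fun y : I ⧸ K.subgroupOf I =>
        (Quotient.liftOn' y (fun i => (QuotientGroup.mk (⟨i, hIL i.2⟩ : L) : L ⧸ K.subgroupOf L)) (by
          intro a b hab
          rw [QuotientGroup.leftRel_apply] at hab
          apply QuotientGroup.eq.2
          exact hab))) := by
      intro y
      obtain ⟨⟨l, hl⟩, rfl⟩ := QuotientGroup.mk_surjective y
      obtain ⟨i, hi, k, hk, rfl⟩ := hL l hl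
      refine ⟨QuotientGroup.mk ⟨i, hi⟩, ?_⟩
      show (QuotientGroup.mk (⟨i, hIL hi⟩ : L) : L ⧸ K.subgroupOf L) = QuotientGroup.mk ⟨i * k, hl⟩
      apply QuotientGroup.eq.2
      rw [Subgroup.mem_subgroupOf]
      show i⁻¹ * (i * k) ∈ K
      rwa [inv_mul_cancel_left]
    exact Nat.card_le_card_of_surjective _ hsurj
  · exact Subgroup.relIndex_le_of_le_right hIL Subgroup.index_ne_zero_of_finite

/-- If `L = I K`, then `|L : K|` divides `|I : X|` for `X ≤ K ∩ I`. -/
theorem relIndex_dvd_of_mul {I K L X : Subgroup Γ} (hIL : I ≤ L)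
    (hL : ∀ l ∈ L, ∃ i ∈ I, ∃ k ∈ K, l = i * k) (hXI : X ≤ I) (hXK : X ≤ K) :
    K.relIndex L ∣ X.relIndex I := by
  rw [relIndex_eq_of_mul hIL hL, ← Subgroup.inf_relIndex_right]
  exact Subgroup.relIndex_dvd_of_le_left _ (le_inf hXK hXI)

theorem dvd_pow_of_isPGroup {R : Subgroup Γ} (hR : IsPGroup 2 R) : ∃ k, Nat.card R = 2 ^ k := hR.exists_card_eq

/-- a 2-subgroup `X` containing a 2-subgroup of odd index is equal to it -/
theorem le_of_odd {R X L : Subgroup Γ} (hRX : R ≤ X) (hXL : X ≤ L) (hX : IsPGroup 2 X) (hodd : Odd (R.relIndex L)) :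
    X ≤ R := by
  rw [← Subgroup.relIndex_eq_one]
  have h1 : R.relIndex X ∣ R.relIndex L := by
    rw [← Subgroup.relIndex_mul_relIndex _ _ _ hRX hXL]
    exact dvd_mul_right _ _
  obtain ⟨k, hk⟩ := hX.exists_card_eq
  have h2 : R.relIndex X ∣ 2 ^ k := by
    rw [← hk]
    exact Subgroup.relIndex_dvd_card _ _
  have h3 : (R.relIndex L).Coprime (2 ^ k) := (Nat.coprime_two_right.2 hodd).pow_right k
  exact Nat.eq_one_of_dvd_coprimes h3 h1 h2

omit [Finite Γ] in
theorem exists_mul_of_sup {K R : Subgroup Γ} (h : ∀ r ∈ R, ∀ k ∈ K, r * k * r⁻¹ ∈ K) {l : Γ} (hl : l ∈ K ⊔ R) :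
    ∃ k ∈ K, ∃ r ∈ R, l = k * r := by
  rw [Subgroup.sup_eq_closure] at hl
  refine Subgroup.closure_induction (p := fun l _ => ∃ k ∈ K, ∃ r ∈ R, l = k * r) ?_ ?_ ?_ ?_ hl
  · rintro x (hx | hx)
    · exact ⟨x, hx, 1, R.one_mem, (mul_one x).symm⟩
    · exact ⟨1, K.one_mem, x, hx, (one_mul x).symm⟩
  · exact ⟨1, K.one_mem, 1, R.one_mem, (mul_one 1).symm⟩
  · rintro _ _ _ _ ⟨k₁, hk₁, r₁, hr₁, rfl⟩ ⟨k₂, hk₂, r₂, hr₂, rfl⟩
    exact ⟨k₁ * (r₁ * k₂ * r₁⁻¹), K.mul_mem hk₁ (h r₁ hr₁ k₂ hk₂), r₁ * r₂, R.mul_mem hr₁ hr₂, by group⟩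
  · rintro _ _ ⟨k, hk, r, hr, rfl⟩
    have h1 := h r⁻¹ (R.inv_mem hr) k⁻¹ (K.inv_mem hk)
    exact ⟨_, h1, r⁻¹, R.inv_mem hr, by group⟩

/-- Sylow intersected with a normal subgroup -/
theorem odd_relIndex_inf {R H I : Subgroup Γ} [I.Normal] (hRH : R ≤ H) (hodd : Odd (R.relIndex H)) :
    Odd (R.relIndex (H ⊓ I)) := by
  -- `L = (H ∩ I) R`
  have h1 : R.relIndex ((H ⊓ I) ⊔ R) = R.relIndex (H ⊓ I) := by
    apply relIndex_eq_of_mul le_sup_left
    intro l hl
    apply exists_mul_of_sup _ hl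
    intro r hr x hx
    exact ⟨H.mul_mem (H.mul_mem (hRH hr) hx.1) (H.inv_mem (hRH hr)), ‹I.Normal›.conj_mem _ hx.2 _⟩
  have h2 : R.relIndex (H ⊓ I) ∣ R.relIndex H := by
    rw [← h1, ← Subgroup.relIndex_mul_relIndex _ _ _ (le_sup_right : R ≤ (H ⊓ I) ⊔ R) (sup_le inf_le_left hRH)]
    exact dvd_mul_right _ _
  exact hodd.of_dvd_nat h2

end gen

/-! ### Automorphisms -/

section aut
variable {S : Type u} [Group S]

theorem conj_injective (hc : Subgroup.center S = ⊥) : Function.Injective (MulAut.conj : S →* MulAut S) := by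
  rw [injective_iff_map_eq_one]
  intro a ha
  have h1 : a ∈ Subgroup.center S := by
    rw [Subgroup.mem_center_iff]
    intro g
    have h2 : MulAut.conj a g = g := by rw [ha]; rfl
    rw [MulAut.conj_apply] at h2
    calc g * a = a * g * a⁻¹ * a := by rw [h2]
      _ = a * g := by group
  rw [hc, Subgroup.mem_bot] at h1
  exact h1

theorem mul_conj_mul_inv (α : MulAut S) (s : S) : α * MulAut.conj s * α⁻¹ = MulAut.conj (α s) := by
  ext x
  rw [MulAut.mul_apply, MulAut.mul_apply, MulAut.conj_apply, MulAut.conj_apply, map_mul, map_mul, map_inv,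
    MulAut.apply_inv_self]

theorem mul_conj (α : MulAut S) (s : S) : α * MulAut.conj s = MulAut.conj (α s) * α := by
  rw [← mul_conj_mul_inv]
  group

/-- the stabiliser of a subgroup in the automorphism group -/
def NN (T : Subgroup S) : Subgroup (MulAut S) := MulAction.stabilizer (MulAut S) T

theorem mem_NN' {T : Subgroup S} {α : MulAut S} : α ∈ NN T ↔ α • T = T := MulAction.mem_stabilizer_iff

theorem mem_NN [Finite S] {T : Subgroup S} {α : MulAut S} : α ∈ NN T ↔ ∀ t ∈ T, α t ∈ T := by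
  rw [mem_NN']
  constructor
  · intro h t ht
    rw [← h]
    exact Subgroup.smul_mem_pointwise_smul t α T ht
  · intro h
    have h1 : α • T ≤ T := by
      rintro _ ⟨t, ht, rfl⟩
      exact h t ht
    apply Subgroup.eq_of_le_of_card_ge h1
    exact (Nat.card_congr (Subgroup.equivSMul α T).toEquiv).le

theorem conj_mem_NN [Finite S] {T : Subgroup S} {s : S} :
    MulAut.conj s ∈ NN T ↔ s ∈ Subgroup.normalizer (T : Set S) := by
  rw [mem_NN']
  constructor
  · intro h
    rw [Subgroup.mem_normalizer_iff]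
    intro t
    constructor
    · intro ht
      have h1 := Subgroup.smul_mem_pointwise_smul t (MulAut.conj s) T ht
      rw [h] at h1
      exact h1
    · intro ht
      have h1 : MulAut.conj s • t ∈ MulAut.conj s • T := by
        rw [h]
        exact ht
      exact Subgroup.smul_mem_pointwise_smul_iff.1 h1
  · intro h
    rw [← mem_NN', mem_NN]
    intro t ht
    exact (Subgroup.mem_normalizer_iff.1 h t).1 ht

/-- in a context the elements inducing automorphisms in `A` are in `Q` -/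
theorem mem_Q_of_conj [Finite S] (hc : Subgroup.center S = ⊥) {Q : Sylow 2 S} {A : Subgroup (MulAut S)}
    (c : Ctx Q A) {s : S} (hs : MulAut.conj s ∈ A) : s ∈ (Q : Subgroup S) := by
  have h1 : IsPGroup 2 (A.comap (MulAut.conj : S →* MulAut S)) := c.isP.comap_of_injective _ (conj_injective hc)
  have h2 : (Q : Subgroup S) ≤ A.comap (MulAut.conj : S →* MulAut S) := fun x hx => c.inner x hx
  have h3 := Q.is_maximal' h1 h2
  rw [← h3]
  exact hs

/-- Frattini argument and conjugacy of complements -/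
theorem frattini [Finite S] {p : ℕ} {U T : Subgroup S} (h : TorAut p U T) (α : MulAut S) :
    ∃ s : S, MulAut.conj s * α ∈ NN U ∧ MulAut.conj s * α ∈ NN T := by
  have hp : Fact p.Prime := ⟨h.prime⟩
  let P : Sylow p S := h.isP.toSylow h.index
  have hP : (P : Subgroup S) = U := h.isP.toSylow_coe h.index
  obtain ⟨s, hs⟩ := MulAction.exists_smul_eq S (α • P) P
  have h1 : MulAut.conj s • (α • U) = U := by
    have h2 := congrArg (fun R : Sylow p S => (R : Subgroup S)) hs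
    simp only [Sylow.coe_subgroup_smul] at h2
    have h3 : ((α • P : Sylow p S) : Subgroup S) = α • U := by rw [← hP]; rfl
    rw [h3, hP] at h2
    exact h2
  set β : MulAut S := MulAut.conj s * α with hβ
  have hβU : β • U = U := by rw [hβ, mul_smul, h1]
  -- `B = N(U)`
  set B : Subgroup S := Subgroup.normalizer (U : Set S) with hB
  have hTB : T ≤ B := by rw [hB, h.norm]; exact le_sup_right
  have hUB : U ≤ B := Subgroup.le_normalizer
  have hβB : ∀ b ∈ B, β b ∈ B := by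
    intro b hb
    have h3 : MulAut.conj b ∈ NN U := conj_mem_NN.2 hb
    have h4 : MulAut.conj (β b) ∈ NN U := by
      rw [← mul_conj_mul_inv]
      exact (NN U).mul_mem ((NN U).mul_mem (mem_NN'.2 hβU) h3) ((NN U).inv_mem (mem_NN'.2 hβU))
    exact conj_mem_NN.1 h4
  have hβT : β • T ≤ B := by
    rintro _ ⟨t, ht, rfl⟩
    exact hβB t (hTB ht)
  have hUn : (U.subgroupOf B).Normal := by
    rw [hB]
    exact Subgroup.normal_in_normalizer
  have hdisj : ∀ x ∈ U, x ∈ T → x = 1 := by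
    intro x hxU hxT
    obtain ⟨k, hk⟩ := h.isP ⟨x, hxU⟩
    have h2 : x ^ p ^ k = 1 := congrArg Subtype.val hk
    have h3 : x ^ Nat.card T = 1 := by
      have := pow_card_eq_one' (x := (⟨x, hxT⟩ : T))
      exact congrArg Subtype.val this
    have h4 : (p ^ k).Coprime (Nat.card T) := by
      apply Nat.Coprime.pow_left
      exact (Nat.Prime.coprime_iff_not_dvd h.prime).2 h.cop
    have h5 : orderOf x ∣ 1 := by
      rw [← Nat.coprime_iff_gcd_eq_one.1 h4]
      exact Nat.dvd_gcd (orderOf_dvd_of_pow_eq_one h2) (orderOf_dvd_of_pow_eq_one h3)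
    exact orderOf_eq_one_iff.1 (Nat.dvd_one.1 h5)
  have hcompl : Subgroup.IsComplement' (U.subgroupOf B) (T.subgroupOf B) := by
    apply Subgroup.isComplement'_of_disjoint_and_mul_eq_univ
    · rw [Subgroup.disjoint_def]
      intro x hx hx'
      exact Subtype.ext (hdisj x hx hx')
    · rw [← Subgroup.normal_mul, ← Subgroup.coe_top]
      congr 1
      rw [← Subgroup.subgroupOf_sup hUB hTB, Subgroup.subgroupOf_eq_top, hB, h.norm]
  have hidx : (U.subgroupOf B).index = Nat.card T := by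
    rw [hcompl.symm.index_eq_card]
    exact Nat.card_congr (Subgroup.subgroupOfEquivOfLe hTB).toEquiv
  have hcU : Nat.card (U.subgroupOf B) = Nat.card U := Nat.card_congr (Subgroup.subgroupOfEquivOfLe hUB).toEquiv
  have hcop : (Nat.card (U.subgroupOf B)).Coprime (U.subgroupOf B).index := by
    rw [hidx, hcU]
    obtain ⟨k, hk⟩ := h.isP.exists_card_eq
    rw [hk]
    apply Nat.Coprime.pow_left
    exact (Nat.Prime.coprime_iff_not_dvd h.prime).2 h.cop
  have hcompl2 : Subgroup.IsComplement' (U.subgroupOf B) ((β • T : Subgroup S).subgroupOf B) := by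
    apply Cfsg.Agent.Solvable.SchurZassenhausConj.isComplement'_of_card_eq_index _ _ hcop
    rw [hidx, Nat.card_congr (Subgroup.subgroupOfEquivOfLe hβT).toEquiv]
    exact (Nat.card_congr (Subgroup.equivSMul β T).toEquiv).symm
  have hsolv : Group.IsSolvable (U.subgroupOf B) := by
    have : IsPGroup p (U.subgroupOf B) :=
      h.isP.of_injective (Subgroup.subgroupOfEquivOfLe hUB).toMonoidHom (Subgroup.subgroupOfEquivOfLe hUB).injective
    have := this.isNilpotent
    infer_instance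
  obtain ⟨g, hg⟩ := Cfsg.Agent.Solvable.SchurZassenhausConj.conj_of_solvable _ hcop (Or.inl hsolv) _ _ hcompl2 hcompl
  refine ⟨(g : S) * s, ?_, ?_⟩
  · rw [map_mul, mul_assoc, ← hβ]
    exact (NN U).mul_mem (conj_mem_NN.2 g.2) (mem_NN'.2 hβU)
  · rw [map_mul, mul_assoc, ← hβ, mem_NN]
    intro t ht
    have h2 : (⟨β t, hβT (Subgroup.smul_mem_pointwise_smul t β T ht)⟩ : B) ∈ (β • T : Subgroup S).subgroupOf B :=
      Subgroup.smul_mem_pointwise_smul t β T ht
    have h3 := Subgroup.smul_mem_pointwise_smul _ (MulAut.conj g) _ h2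
    rw [hg] at h3
    exact h3

/-- the conjugate of a group of automorphisms by an inner automorphism -/
def cjA (g : S) (A : Subgroup (MulAut S)) : Subgroup (MulAut S) :=
  A.map (MulAut.conj (MulAut.conj g : MulAut S)).toMonoidHom

theorem mem_cjA {g : S} {A : Subgroup (MulAut S)} {a : MulAut S} :
    a ∈ cjA g A ↔ (MulAut.conj g)⁻¹ * a * MulAut.conj g ∈ A := by
  constructor
  · rintro ⟨b, hb, rfl⟩
    have e : (MulAut.conj g)⁻¹ * (MulAut.conj (MulAut.conj g : MulAut S)).toMonoidHom b * MulAut.conj g = b := by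
      show (MulAut.conj g)⁻¹ * (MulAut.conj g * b * (MulAut.conj g)⁻¹) * MulAut.conj g = b
      group
    rw [e]
    exact hb
  · intro h
    refine ⟨_, h, ?_⟩
    show MulAut.conj g * ((MulAut.conj g)⁻¹ * a * MulAut.conj g) * (MulAut.conj g)⁻¹ = a
    group

theorem mem_smul_sylow {g x : S} {Q : Sylow 2 S} : x ∈ ((g • Q : Sylow 2 S) : Subgroup S) ↔
    g⁻¹ * x * g ∈ (Q : Subgroup S) := by
  rw [Sylow.coe_subgroup_smul, Subgroup.mem_pointwise_smul_iff_inv_smul_mem]
  have h3 : (MulAut.conj g)⁻¹ • x = g⁻¹ * x * g := by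
    rw [← map_inv, MulAut.smul_def, MulAut.conj_apply, inv_inv]
  rw [h3]

theorem Ctx.conj {Q : Sylow 2 S} {A : Subgroup (MulAut S)} (c : Ctx Q A) (g : S) : Ctx (g • Q) (cjA g A) where
  isP := c.isP.map _
  inner := by
    intro x hx
    rw [mem_cjA]
    have h1 := c.inner _ (mem_smul_sylow.1 hx)
    have e : (MulAut.conj g)⁻¹ * MulAut.conj x * MulAut.conj g = MulAut.conj (g⁻¹ * x * g) := by
      rw [map_mul, map_mul, map_inv]
    rw [e]
    exact h1
  stab := by
    intro a ha x hx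
    rw [mem_cjA] at ha
    rw [mem_smul_sylow] at hx ⊢
    have h1 := c.stab _ ha _ hx
    have e : ((MulAut.conj g)⁻¹ * a * MulAut.conj g) (g⁻¹ * x * g) = g⁻¹ * a x * g := by
      rw [← map_inv, MulAut.mul_apply, MulAut.mul_apply, MulAut.conj_apply, MulAut.conj_apply, inv_inv]
      congr 3
      group
    rw [e] at h1
    exact h1

/-- **Normalisation of a context.** -/
theorem exists_norm [Finite S] {p : ℕ} {U T : Subgroup S} (h : TorAut p U T) {𝓜 : Set (Subgroup S)}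
    (h𝓜 : Frames T 𝓜) {Q : Sylow 2 S} {A : Subgroup (MulAut S)} (c : Ctx Q A) :
    ∃ g : S, NCtx (g • Q) (cjA g A) U T 𝓜 := by
  have hinj := conj_injective h.cen
  set I : Subgroup (MulAut S) := (MulAut.conj : S →* MulAut S).range with hI
  have hIn : I.Normal := by
    constructor
    rintro _ ⟨s, rfl⟩ α
    rw [mul_conj_mul_inv]
    exact ⟨_, rfl⟩
  have hmapI : I = (⊤ : Subgroup S).map (MulAut.conj : S →* MulAut S) := by rw [hI, MonoidHom.range_eq_map]
  have hIc : ∀ s : S, MulAut.conj s ∈ I := fun s => ⟨s, rfl⟩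
  set L : Subgroup (MulAut S) := I ⊔ A with hLdef
  have hIL : I ≤ L := le_sup_left
  have hAL : A ≤ L := le_sup_right
  have hL : ∀ l ∈ L, ∃ s : S, ∃ a ∈ A, l = MulAut.conj s * a := by
    intro l hl
    obtain ⟨_, ⟨s, rfl⟩, a, ha, rfl⟩ := Subgroup.mem_sup_of_normal_left.1 hl
    exact ⟨s, a, ha, rfl⟩
  -- the group normalising `U` and `T`
  set NUT : Subgroup (MulAut S) := L ⊓ (NN U ⊓ NN T) with hNUT
  have hfr : ∀ l ∈ L, ∃ s : S, ∃ β ∈ NUT, l = MulAut.conj s * β := by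
    intro l hl
    obtain ⟨s, h1, h2⟩ := frattini h l
    refine ⟨s⁻¹, MulAut.conj s * l, ⟨L.mul_mem (hIL (hIc s)) hl, h1, h2⟩, ?_⟩
    rw [← mul_assoc, ← map_mul, inv_mul_cancel, map_one, one_mul]
  obtain ⟨R₀, hR₀N, -, hR₀p, hR₀odd⟩ := exists_syl (H := NUT) (R₀ := ⊥) IsPGroup.of_bot bot_le
  -- `L = I R₀`
  have hIidx : ∃ k, I.relIndex NUT ∣ 2 ^ k := by
    have h1 : I ⊔ NUT = L := by
      apply le_antisymm (sup_le hIL inf_le_left)
      intro l hl
      obtain ⟨s, β, hβ, rfl⟩ := hfr l hl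
      exact Subgroup.mul_mem_sup (hIc s) hβ
    have h2 : I.relIndex NUT = I.relIndex A := by
      rw [← Subgroup.relIndex_sup_left, h1, hLdef, Subgroup.relIndex_sup_left]
    obtain ⟨k, hk⟩ := c.isP.exists_card_eq
    exact ⟨k, by rw [h2, ← hk]; exact Subgroup.relIndex_dvd_card _ _⟩
  have hNI : NUT ≤ I ⊔ R₀ := by
    rw [← Subgroup.relIndex_eq_one]
    obtain ⟨k, hk⟩ := hIidx
    have h1 : (I ⊔ R₀).relIndex NUT ∣ R₀.relIndex NUT := Subgroup.relIndex_dvd_of_le_left _ le_sup_right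
    have h2 : (I ⊔ R₀).relIndex NUT ∣ 2 ^ k := (Subgroup.relIndex_dvd_of_le_left _ le_sup_left).trans hk
    exact Nat.eq_one_of_dvd_coprimes ((Nat.coprime_two_right.2 hR₀odd).pow_right k) h1 h2
  have hLR : ∀ l ∈ L, ∃ s : S, ∃ r ∈ R₀, l = MulAut.conj s * r := by
    intro l hl
    obtain ⟨s, β, hβ, rfl⟩ := hfr l hl
    obtain ⟨_, ⟨s', rfl⟩, r, hr, rfl⟩ := Subgroup.mem_sup_of_normal_left.1 (hNI hβ)
    exact ⟨s * s', r, hr, by rw [map_mul, mul_assoc]⟩
  -- Sylow subgroup of `N_L(T)`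
  set NT : Subgroup (MulAut S) := L ⊓ NN T with hNT
  have hR₀NT : R₀ ≤ NT := hR₀N.trans (inf_le_inf_left _ inf_le_right)
  obtain ⟨R, hRN, hR₀R, hRp, hRodd⟩ := exists_syl (H := NT) hR₀p hR₀NT
  -- a fixed frame
  have hRT : ∀ r ∈ R, ∀ t ∈ T, r t ∈ T := fun r hr => mem_NN.1 (hRN hr).2
  obtain ⟨M, hM, hMR⟩ : ∃ M ∈ 𝓜, ∀ r ∈ R, r ∈ NN M := by
    let act : MulAction R 𝓜 :=
      { smul := fun r M => ⟨(M : Subgroup S).map (r : MulAut S).toMonoidHom, h𝓜.stab r (hRT r r.2) M M.2⟩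
        one_smul := by
          intro M
          apply Subtype.ext
          show (M : Subgroup S).map ((1 : MulAut S)).toMonoidHom = M
          exact Subgroup.map_id _
        mul_smul := by
          intro r r' M
          apply Subtype.ext
          show (M : Subgroup S).map ((r : MulAut S) * r').toMonoidHom =
            ((M : Subgroup S).map (r' : MulAut S).toMonoidHom).map (r : MulAut S).toMonoidHom
          rw [Subgroup.map_map]
          rfl }
    have h1 : ¬ 2 ∣ Nat.card 𝓜 := by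
      rw [← even_iff_two_dvd, Nat.not_even_iff_odd]
      exact h𝓜.odd
    obtain ⟨M, hM⟩ := hRp.nonempty_fixed_point_of_prime_not_dvd_card 𝓜 h1
    refine ⟨M, M.2, fun r hr => ?_⟩
    rw [mem_NN]
    intro m hm
    have h2 := hM ⟨r, hr⟩
    have h3 : (M : Subgroup S).map (r : MulAut S).toMonoidHom = M := congrArg Subtype.val h2
    have h4 : r m ∈ (M : Subgroup S).map (r : MulAut S).toMonoidHom := ⟨m, hm, rfl⟩
    rwa [h3] at h4
  set NM : Subgroup (MulAut S) := L ⊓ NN M with hNM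
  have hRNM : R ≤ NM := fun r hr => ⟨(hRN hr).1, hMR r hr⟩
  obtain ⟨A₁, hA₁N, hRA₁, hA₁p, hA₁odd⟩ := exists_syl (H := NM) hRp hRNM
  -- indices in `L`
  have hidx : ∀ (X : Subgroup S) (K : Subgroup (MulAut S)), Odd X.index → X.map (MulAut.conj : S →* MulAut S) ≤ K →
      (∀ l ∈ L, ∃ i ∈ I, ∃ k ∈ K, l = i * k) → Odd (K.relIndex L) := by
    intro X K hX hXK hK
    have h1 := relIndex_dvd_of_mul hIL hK
      (by rw [hmapI]; exact Subgroup.map_mono le_top : X.map (MulAut.conj : S →* MulAut S) ≤ I) hXK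
    rw [hmapI, Subgroup.relIndex_map_map_of_injective _ _ hinj, Subgroup.relIndex_top_right] at h1
    exact hX.of_dvd_nat h1
  have hNModd : Odd (NM.relIndex L) := by
    apply hidx M NM (h𝓜.index M hM)
    · rintro _ ⟨m, hm, rfl⟩
      exact ⟨hIL (hIc m), conj_mem_NN.2 (Subgroup.le_normalizer hm)⟩
    · intro l hl
      obtain ⟨s, r, hr, rfl⟩ := hLR l hl
      exact ⟨_, hIc s, r, hRNM (hR₀R hr), rfl⟩
  have hAodd : Odd (A.relIndex L) := by
    apply hidx (Q : Subgroup S) A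
    · rw [← Nat.not_even_iff_odd, even_iff_two_dvd]
      exact Q.not_dvd_index
    · rintro _ ⟨x, hx, rfl⟩
      exact c.inner x hx
    · intro l hl
      obtain ⟨s, a, ha, rfl⟩ := hL l hl
      exact ⟨_, hIc s, a, ha, rfl⟩
  have hA₁L : A₁ ≤ L := hA₁N.trans inf_le_left
  have hA₁odd' : Odd (A₁.relIndex L) := by
    rw [← Subgroup.relIndex_mul_relIndex _ _ _ hA₁N (inf_le_left : NM ≤ L)]
    exact hA₁odd.mul hNModd
  obtain ⟨l, hl, hlA⟩ := exists_conj_le hAL c.isP hAodd hA₁L hA₁p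
  obtain ⟨g, a₀, ha₀, rfl⟩ := hL l hl
  have hA₁A' : A₁ ≤ cjA g A := by
    intro a ha
    rw [mem_cjA]
    have h1 := A.mul_mem (A.mul_mem ha₀ (hlA a ha)) (A.inv_mem ha₀)
    have e : a₀ * ((MulAut.conj g * a₀)⁻¹ * a * (MulAut.conj g * a₀)) * a₀⁻¹ =
      (MulAut.conj g)⁻¹ * a * MulAut.conj g := by group
    rwa [e] at h1
  have hc' : Ctx (g • Q) (cjA g A) := Ctx.conj c g
  have hA'L : cjA g A ≤ L := by
    intro a ha
    have h1 := L.mul_mem (L.mul_mem (hIL (hIc g)) (hAL (mem_cjA.1 ha))) (L.inv_mem (hIL (hIc g)))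
    have e : MulAut.conj g * ((MulAut.conj g)⁻¹ * a * MulAut.conj g) * (MulAut.conj g)⁻¹ = a := by group
    rwa [e] at h1
  have hA'A₁ : cjA g A ≤ A₁ := le_of_odd hA₁A' hA'L hc'.isP hA₁odd'
  refine ⟨g, ?_, ?_, ?_, ?_⟩
  · -- `sylT`
    intro t ht htk
    apply mem_Q_of_conj h.cen hc'
    apply hA₁A'
    apply hRA₁
    apply hR₀R
    -- the 2-elements of `T`
    let T₂ : Subgroup S :=
      { carrier := {t | t ∈ T ∧ ∃ k : ℕ, t ^ 2 ^ k = 1}
        one_mem' := ⟨T.one_mem, 0, one_pow _⟩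
        mul_mem' := by
          rintro a b ⟨ha, k, hk⟩ ⟨hb, l, hl⟩
          refine ⟨T.mul_mem ha hb, k + l, ?_⟩
          have hcomm : Commute a b := h.comm a ha b hb
          rw [hcomm.mul_pow, pow_add, pow_mul, hk, one_pow, one_mul, mul_comm, pow_mul, hl, one_pow]
        inv_mem' := by
          rintro a ⟨ha, k, hk⟩
          exact ⟨T.inv_mem ha, k, by rw [inv_pow, hk, inv_one]⟩ }
    have hT₂ : IsPGroup 2 T₂ := by
      rintro ⟨t, ht, k, hk⟩
      exact ⟨k, Subtype.ext hk⟩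
    set X : Subgroup (MulAut S) := T₂.map (MulAut.conj : S →* MulAut S) with hX
    have hXp : IsPGroup 2 X := hT₂.map _
    have hXN : X ≤ NUT := by
      rintro _ ⟨t, ⟨ht, -⟩, rfl⟩
      refine ⟨hIL (hIc t), conj_mem_NN.2 ?_, conj_mem_NN.2 (Subgroup.le_normalizer ht)⟩
      rw [h.norm]
      exact Subgroup.mem_sup_right ht
    have hnorm : R₀ ≤ Subgroup.normalizer (X : Set (MulAut S)) := by
      have h1 : ∀ r ∈ R₀, ∀ y ∈ X, r * y * r⁻¹ ∈ X := by
        rintro r hr _ ⟨t, ⟨ht, k, hk⟩, rfl⟩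
        have h2 : r * MulAut.conj t * r⁻¹ = MulAut.conj (r t) := mul_conj_mul_inv r t
        rw [h2]
        refine ⟨r t, ⟨mem_NN.1 (hR₀N hr).2.2 t ht, k, ?_⟩, rfl⟩
        rw [← map_pow, hk, map_one]
      intro r hr
      rw [Subgroup.mem_normalizer_iff]
      intro y
      refine ⟨h1 r hr y, fun hy => ?_⟩
      have h2 := h1 r⁻¹ (R₀.inv_mem hr) _ hy
      have e : r⁻¹ * (r * y * r⁻¹) * r⁻¹⁻¹ = y := by group
      rwa [e] at h2
    have hsup : IsPGroup 2 (R₀ ⊔ X : Subgroup (MulAut S)) := hR₀p.to_sup_of_normal_right' hXp hnorm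
    have h3 := le_of_odd (le_sup_left : R₀ ≤ R₀ ⊔ X) (sup_le hR₀N hXN) hsup hR₀odd
    exact h3 (Subgroup.mem_sup_right ⟨t, ⟨ht, htk⟩, rfl⟩)
  · -- frame
    refine ⟨M, hM, ?_⟩
    intro x hx
    have h1 : MulAut.conj x ∈ NM := hA₁N (hA'A₁ (hc'.inner x hx))
    have h2 : x ∈ Subgroup.normalizer (M : Set S) := conj_mem_NN.1 h1.2
    have h3 : Odd (M.relIndex (Subgroup.normalizer (M : Set S))) := by
      have h4 : M.relIndex (Subgroup.normalizer (M : Set S)) ∣ M.index := by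
        apply Subgroup.relIndex_dvd_index_of_le Subgroup.le_normalizer
      exact (h𝓜.index M hM).of_dvd_nat h4
    have hMn : (M.subgroupOf (Subgroup.normalizer (M : Set S))).Normal := Subgroup.normal_in_normalizer
    obtain ⟨k, hk⟩ := (g • Q : Sylow 2 S).isPGroup' ⟨x, hx⟩
    have hk' : x ^ 2 ^ k = 1 := congrArg Subtype.val hk
    have h5 := Subgroup.pow_index_mem (M.subgroupOf (Subgroup.normalizer (M : Set S))) ⟨x, h2⟩
    have h5' : x ^ (M.relIndex (Subgroup.normalizer (M : Set S))) ∈ M := h5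
    have h6 : (2 ^ k).Coprime (M.relIndex (Subgroup.normalizer (M : Set S))) :=
      (Nat.coprime_two_left.2 h3).pow_left k
    -- Bezout
    have h7 : x ∈ Subgroup.zpowers (x ^ (M.relIndex (Subgroup.normalizer (M : Set S)))) := by
      have hox : orderOf x ∣ 2 ^ k := orderOf_dvd_of_pow_eq_one hk'
      have hcop : (orderOf x).Coprime (M.relIndex (Subgroup.normalizer (M : Set S))) := h6.coprime_dvd_left hox
      have h8 : orderOf (x ^ (M.relIndex (Subgroup.normalizer (M : Set S)))) = orderOf x := hcop.orderOf_pow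
      have h9 : Subgroup.zpowers (x ^ (M.relIndex (Subgroup.normalizer (M : Set S)))) = Subgroup.zpowers x := by
        apply Subgroup.eq_of_le_of_card_ge
        · rw [Subgroup.zpowers_le]
          exact Subgroup.pow_mem _ (Subgroup.mem_zpowers x) _
        · rw [Nat.card_zpowers, Nat.card_zpowers, h8]
      rw [h9]
      exact Subgroup.mem_zpowers x
    exact (Subgroup.zpowers_le.2 h5') h7
  · -- `sylN`
    have h1 : Odd (R.relIndex (NT ⊓ I)) := odd_relIndex_inf hRN hRodd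
    have h2 : NT ⊓ I = (Subgroup.normalizer (T : Set S)).map (MulAut.conj : S →* MulAut S) := by
      ext α
      constructor
      · rintro ⟨hα, s, rfl⟩
        exact ⟨s, conj_mem_NN.1 hα.2, rfl⟩
      · rintro ⟨s, hs, rfl⟩
        exact ⟨⟨hIL (hIc s), conj_mem_NN.2 hs⟩, hIc s⟩
    rw [h2, ← Subgroup.relIndex_comap] at h1
    apply h1.of_dvd_nat
    have h3 : R.comap (MulAut.conj : S →* MulAut S) ≤
        ((g • Q : Sylow 2 S) : Subgroup S) ⊓ Subgroup.normalizer (T : Set S) := by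
      intro s hs
      exact ⟨mem_Q_of_conj h.cen hc' (hA₁A' (hRA₁ hs)), conj_mem_NN.1 (hRN hs).2⟩
    exact Subgroup.relIndex_dvd_of_le_left _ h3
  · -- `dec`
    intro a ha
    obtain ⟨s, r, hr, rfl⟩ := hLR a (hA'L ha)
    have hrA : r ∈ cjA g A := hA₁A' (hRA₁ (hR₀R hr))
    have h1 : MulAut.conj s ∈ cjA g A := by
      have h2 := (cjA g A).mul_mem ha ((cjA g A).inv_mem hrA)
      rwa [mul_inv_cancel_right] at h2
    exact ⟨s, mem_Q_of_conj h.cen hc' h1, r, hrA, rfl, mem_NN.1 (hR₀N hr).2.1, mem_NN.1 (hR₀N hr).2.2⟩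

end aut

end Cfsg.Agent.H55.Sd
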