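import Cfsg.Agent.H55.Sd.Norm
import Cfsg.Agent.Characters.Core

/-!
# S4579, TL-2: `row_of_toral` and `row_of_toral_set` (helper55)
-/

set_option autoImplicit false
set_option linter.unusedSectionVars false

namespace Cfsg.Agent.H55.Sd

open Cfsg Cfsg.Agent.H643.Sd Cfsg.Agent.Characters.Core
open scoped Pointwise

universe u

/-! ### Induced functions and automorphisms -/

section ind
variable {S : Type u} [Group S] [Fintype S]

theorem extendByZero_of_mem {H : Subgroup S} (θ : H → ℂ) {x : S} (hx : x ∈ H) : extendByZero H θ x = θ ⟨x, hx⟩ :=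
  Subtype.val_injective.extend_apply θ 0 ⟨x, hx⟩

omit [Fintype S] in
theorem extendByZero_of_notMem {H : Subgroup S} (θ : H → ℂ) {x : S} (hx : x ∉ H) : extendByZero H θ x = 0 := by
  unfold extendByZero
  rw [Function.extend_apply' _ _ _ (by rintro ⟨a, rfl⟩; exact hx a.2)]
  rfl

theorem indFun_aut {H : Subgroup S} (θ θ' : H → ℂ) (α : MulAut S) (hα : ∀ x, x ∈ H ↔ α x ∈ H)
    (hθ : ∀ (x : H) (h : α x ∈ H), θ ⟨α x, h⟩ = θ' x) (g : S) : indFun H θ (α g) = indFun H θ' g := by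
  unfold indFun
  congr 1
  have h1 : ∀ z : S, extendByZero H θ (α z) = extendByZero H θ' z := by
    intro z
    by_cases hz : z ∈ H
    · rw [extendByZero_of_mem θ ((hα z).1 hz), extendByZero_of_mem θ' hz]
      exact hθ ⟨z, hz⟩ _
    · rw [extendByZero_of_notMem θ (fun h => hz ((hα z).2 h)), extendByZero_of_notMem θ' hz]
  rw [← Equiv.sum_comp α.toEquiv]
  apply Finset.sum_congr rfl
  intro x _
  rw [← h1]
  congr 1
  show (α x)⁻¹ * α g * α x = _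
  rw [map_mul, map_mul, map_inv]

theorem indFun_conj {H : Subgroup S} (θ : H → ℂ) (x g : S) : indFun H θ (MulAut.conj x g) = indFun H θ g := by
  unfold indFun
  congr 1
  rw [← Equiv.sum_comp (Equiv.mulLeft x)]
  apply Finset.sum_congr rfl
  intro y _
  congr 1
  show (x * y)⁻¹ * (x * g * x⁻¹) * (x * y) = _
  group

theorem classInner_aut (φ ψ : S → ℂ) (α : MulAut S) : classInner (φ ∘ α) (ψ ∘ α) = classInner φ ψ := by
  unfold classInner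
  congr 1
  exact Equiv.sum_comp α.toEquiv (fun g => φ g * starRingEnd ℂ (ψ g))

theorem isIrr_aut (θ : IrrCharacter S) (α : MulAut S) : IsIrrCharacter S ((θ : S → ℂ) ∘ α) :=
  isIrr_comp α.toMonoidHom α.surjective θ.2

end ind

/-! ### Moving the context -/

section move
variable {S : Type u} [Group S] [Finite S]

theorem hasGood_of_cjA {M : Ideal AlgInt} {A : Subgroup (MulAut S)} {g : S} (h : HasGood M (cjA g A)) :
    HasGood M A := by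
  obtain ⟨θ, h1, h2, h3, h4⟩ := h
  refine ⟨θ, h1, h2, ?_, h4⟩
  intro a ha x
  have hcl : IsClassFunction S (θ : S → ℂ) := isIrr_isClassFunction θ.2
  have ha' : MulAut.conj g * a * (MulAut.conj g)⁻¹ ∈ cjA g A := by
    rw [mem_cjA]
    have e : (MulAut.conj g)⁻¹ * (MulAut.conj g * a * (MulAut.conj g)⁻¹) * MulAut.conj g = a := by group
    rw [e]
    exact ha
  have h5 := h3 _ ha' (g * x * g⁻¹)
  have h6 : (MulAut.conj g * a * (MulAut.conj g)⁻¹) (g * x * g⁻¹) = g * a x * g⁻¹ := by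
    rw [← map_inv, MulAut.mul_apply, MulAut.mul_apply, MulAut.conj_apply, MulAut.conj_apply, inv_inv]
    congr 3
    group
  rw [h6, hcl, hcl] at h5
  exact h5

/-- conjugate of a linear character of `Q` -/
def cjf (g : S) {Q : Sylow 2 S} (f : (Q : Subgroup S) →* ℂˣ) : ((g • Q : Sylow 2 S) : Subgroup S) →* ℂˣ where
  toFun x := f ⟨g⁻¹ * x * g, mem_smul_sylow.1 x.2⟩
  map_one' := by
    have : (⟨g⁻¹ * ((1 : ((g • Q : Sylow 2 S) : Subgroup S)) : S) * g, mem_smul_sylow.1 (Subgroup.one_mem _)⟩ :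
        (Q : Subgroup S)) = 1 := by
      apply Subtype.ext
      show g⁻¹ * 1 * g = 1
      group
    rw [this, map_one]
  map_mul' x y := by
    rw [← map_mul]
    congr 1
    apply Subtype.ext
    show g⁻¹ * ((x : S) * y) * g = g⁻¹ * x * g * (g⁻¹ * y * g)
    group

theorem inv_cjf {g : S} {Q : Sylow 2 S} {A : Subgroup (MulAut S)} {c : Ctx Q A} {f : (Q : Subgroup S) →* ℂˣ}
    (hf : Inv c f) : Inv (Ctx.conj c g) (cjf g f) := by
  intro a ha x hx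
  have h1 := hf _ (mem_cjA.1 ha) _ (mem_smul_sylow.1 hx)
  show f ⟨g⁻¹ * a x * g, _⟩ = f ⟨g⁻¹ * x * g, _⟩
  rw [← h1]
  congr 1
  apply Subtype.ext
  show g⁻¹ * a x * g = ((MulAut.conj g)⁻¹ * a * MulAut.conj g) (g⁻¹ * x * g)
  rw [← map_inv, MulAut.mul_apply, MulAut.mul_apply, MulAut.conj_apply, MulAut.conj_apply, inv_inv]
  congr 3
  group

theorem ne_cjf {g : S} {Q : Sylow 2 S} {f : (Q : Subgroup S) →* ℂˣ} (hf : ∃ x, f x ^ 2 ≠ 1) :
    ∃ x, cjf g f x ^ 2 ≠ 1 := by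
  obtain ⟨x, hx⟩ := hf
  have e : g⁻¹ * (g * (x : S) * g⁻¹) * g = x := by group
  refine ⟨⟨g * x * g⁻¹, mem_smul_sylow.2 (by rw [e]; exact x.2)⟩, ?_⟩
  have h1 : cjf g f ⟨g * x * g⁻¹, mem_smul_sylow.2 (by rw [e]; exact x.2)⟩ = f x := by
    show f ⟨g⁻¹ * (g * (x : S) * g⁻¹) * g, _⟩ = f x
    congr 1
    exact Subtype.ext e
  rw [h1]
  exact hx

/-- It is enough to treat normalised contexts. -/
theorem row_of_normalised {p : ℕ} {U T : Subgroup S} (h : TorAut p U T) {𝓜 : Set (Subgroup S)} (h𝓜 : Frames T 𝓜)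
    (H : ∀ (M : Ideal AlgInt), IsPModular 2 M → ∀ (Q : Sylow 2 S) (A : Subgroup (MulAut S)) (c : Ctx Q A),
      NCtx Q A U T 𝓜 → ∀ f : (Q : Subgroup S) →* ℂˣ, Inv c f → (∃ x, f x ^ 2 ≠ 1) → HasGood M A) : Row S := by
  intro M hM Q A c f hf hne
  obtain ⟨g, hg⟩ := exists_norm h h𝓜 c
  exact hasGood_of_cjA (H M hM _ _ (Ctx.conj c g) hg (cjf g f) (inv_cjf hf) (ne_cjf hne))

end move

/-! ### The linear character `σ` of `B` -/

section sigma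
variable {S : Type u} [Group S]

theorem disj_UT {p : ℕ} {U T : Subgroup S} (h : TorAut p U T) {x : S} (hxU : x ∈ U) (hxT : x ∈ T) : x = 1 := by
  obtain ⟨k, hk⟩ := h.isP ⟨x, hxU⟩
  have h2 : x ^ p ^ k = 1 := congrArg Subtype.val hk
  have h3 : x ^ Nat.card T = 1 := by
    have := pow_card_eq_one' (x := (⟨x, hxT⟩ : T))
    exact congrArg Subtype.val this
  have h4 : (p ^ k).Coprime (Nat.card T) := by
    apply Nat.Coprime.pow_left
    exact (Nat.Prime.coprime_iff_not_dvd h.prime).2 h.cop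
  have h5 : orderOf x ∣ 1 := by
    rw [← Nat.coprime_iff_gcd_eq_one.1 h4]
    exact Nat.dvd_gcd (orderOf_dvd_of_pow_eq_one h2) (orderOf_dvd_of_pow_eq_one h3)
  exact orderOf_eq_one_iff.1 (Nat.dvd_one.1 h5)

theorem T_norm {p : ℕ} {U T : Subgroup S} (h : TorAut p U T) {t u : S} (ht : t ∈ T) (hu : u ∈ U) :
    t * u * t⁻¹ ∈ U := by
  have h1 : t ∈ Subgroup.normalizer (U : Set S) := by
    rw [h.norm]
    exact Subgroup.mem_sup_right ht
  exact (Subgroup.mem_normalizer_iff.1 h1 u).1 hu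

theorem B_norm {p : ℕ} {U T : Subgroup S} (h : TorAut p U T) {b u : S} (hb : b ∈ U ⊔ T) (hu : u ∈ U) :
    b * u * b⁻¹ ∈ U := by
  rw [← h.norm] at hb
  exact (Subgroup.mem_normalizer_iff.1 hb u).1 hu

/-- the projection `B → T` -/
theorem exists_proj [Finite S] {p : ℕ} {U T : Subgroup S} (h : TorAut p U T) :
    ∃ π : ↥(U ⊔ T) →* T, ∀ b : ↥(U ⊔ T), (b : S) * ((π b : T) : S)⁻¹ ∈ U := by
  have h1 : ∀ b : ↥(U ⊔ T), ∃ t : T, (b : S) * (t : S)⁻¹ ∈ U := by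
    intro b
    obtain ⟨u, hu, t, ht, e⟩ := exists_mul_of_sup (K := U) (R := T) (fun t ht u hu => T_norm h ht hu) b.2
    refine ⟨⟨t, ht⟩, ?_⟩
    rw [e]
    show u * t * t⁻¹ ∈ U
    rwa [mul_inv_cancel_right]
  choose π hπ using h1
  have huniq : ∀ (b : S) (t t' : T), b * (t : S)⁻¹ ∈ U → b * (t' : S)⁻¹ ∈ U → t = t' := by
    intro b t t' h2 h3
    have h4 : (t : S) * (t' : S)⁻¹ ∈ U := by
      have := U.mul_mem (U.inv_mem h2) h3
      have e : (b * (t : S)⁻¹)⁻¹ * (b * (t' : S)⁻¹) = t * (t' : S)⁻¹ := by group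
      rwa [e] at this
    have h5 := disj_UT h h4 (T.mul_mem t.2 (T.inv_mem t'.2))
    exact Subtype.ext (mul_inv_eq_one.1 h5)
  refine ⟨MonoidHom.mk' π ?_, hπ⟩
  intro a b
  apply huniq (a * b : S) _ _ (hπ (a * b))
  have h2 := B_norm h a.2 (hπ b)
  have h3 := U.mul_mem h2 (hπ a)
  have e : (a : S) * (b * (π b : S)⁻¹) * (a : S)⁻¹ * (a * (π a : S)⁻¹) = a * b * ((π a * π b : T) : S)⁻¹ := by
    have e1 : ((π a * π b : T) : S)⁻¹ = (π b : S)⁻¹ * (π a : S)⁻¹ := by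
      rw [Subgroup.coe_mul, mul_inv_rev]
    rw [e1]
    group
  rw [e] at h3
  exact h3

theorem proj_unique [Finite S] {p : ℕ} {U T : Subgroup S} (h : TorAut p U T) {b : S} {t t' : T}
    (h2 : b * (t : S)⁻¹ ∈ U) (h3 : b * (t' : S)⁻¹ ∈ U) : t = t' := by
  have h4 : (t : S) * (t' : S)⁻¹ ∈ U := by
    have := U.mul_mem (U.inv_mem h2) h3
    have e : (b * (t : S)⁻¹)⁻¹ * (b * (t' : S)⁻¹) = t * (t' : S)⁻¹ := by group
    rwa [e] at this
  have h5 := disj_UT h h4 (T.mul_mem t.2 (T.inv_mem t'.2))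
  exact Subtype.ext (mul_inv_eq_one.1 h5)

/-- the exponent of the projection onto the 2-part -/
theorem exists_exp {m : ℕ} (hm : m ≠ 0) : ∃ k a : ℕ, (∀ {G : Type u} [Group G] (x : G), x ^ m = 1 →
    (x ^ k) ^ 2 ^ a = 1 ∧ (∀ j : ℕ, x ^ 2 ^ j = 1 → x ^ k = x)) := by
  obtain ⟨a, r, hr, rfl⟩ := Nat.exists_eq_two_pow_mul_odd hm
  have hcop : (2 ^ a).Coprime r := (Nat.coprime_two_left.2 hr).pow_left a
  obtain ⟨k, hk1, hk2⟩ := Nat.chineseRemainder hcop 1 0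
  refine ⟨k, a, ?_⟩
  intro G _ x hx
  have hrk : r ∣ k := (Nat.modEq_zero_iff_dvd).1 hk2
  constructor
  · obtain ⟨l, rfl⟩ := hrk
    rw [← pow_mul]
    have e : r * l * 2 ^ a = 2 ^ a * r * l := by ring
    rw [e, pow_mul, hx, one_pow]
  · intro j hj
    -- the order of `x` divides `2 ^ a`
    have h1 : orderOf x ∣ 2 ^ a := by
      have h2 : orderOf x ∣ 2 ^ a * r := orderOf_dvd_of_pow_eq_one hx
      have h3 : orderOf x ∣ 2 ^ j := orderOf_dvd_of_pow_eq_one hj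
      have h4 : (orderOf x).Coprime r := ((Nat.coprime_two_left.2 hr).pow_left j).coprime_dvd_left h3
      exact h4.dvd_of_dvd_mul_right h2
    have h5 : k ≡ 1 [MOD orderOf x] := hk1.of_dvd h1
    have h6 := pow_eq_pow_iff_modEq.2 h5
    rwa [pow_one] at h6

theorem mem_normalizer_conj {T : Subgroup S} (n : ↥(Subgroup.normalizer (T : Set S))) {t : S} (ht : t ∈ T) :
    (n : S) * t * (n : S)⁻¹ ∈ T := (Subgroup.mem_normalizer_iff.1 n.2 t).1 ht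

/-- conjugation by `n⁻¹` on `T` -/
def cT {T : Subgroup S} (n : ↥(Subgroup.normalizer (T : Set S))) : T →* T where
  toFun t := ⟨(n : S)⁻¹ * t * n, by
    have := mem_normalizer_conj n⁻¹ t.2
    simpa using this⟩
  map_one' := by
    apply Subtype.ext
    show (n : S)⁻¹ * 1 * n = 1
    group
  map_mul' a b := by
    apply Subtype.ext
    show (n : S)⁻¹ * ((a : S) * b) * n = (n : S)⁻¹ * a * n * ((n : S)⁻¹ * b * n)
    group

/-- the action of `N_S(T)` on the linear characters of `T` -/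
@[instance_reducible]
def actT (T : Subgroup S) : MulAction ↥(Subgroup.normalizer (T : Set S)) (T →* ℂˣ) where
  smul n τ := τ.comp (cT n)
  one_smul τ := by
    ext t
    show ((τ (cT 1 t) : ℂˣ) : ℂ) = τ t
    congr 2
    apply Subtype.ext
    show (1 : S)⁻¹ * t * 1 = t
    group
  mul_smul n m τ := by
    ext t
    show ((τ (cT (n * m) t) : ℂˣ) : ℂ) = τ (cT m (cT n t))
    congr 2
    apply Subtype.ext
    show ((n : S) * m)⁻¹ * t * ((n : S) * m) = (m : S)⁻¹ * ((n : S)⁻¹ * t * n) * m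
    group

/-- the number of conjugates divides the index of every subgroup of `N_S(T)` fixing `σ` on `T` -/
theorem card_conjSet_dvd [Finite S] {B T X : Subgroup S} (hTB : T ≤ B) (σ : B →* ℂˣ)
    (hX : ∀ x ∈ X, x ∈ Subgroup.normalizer (T : Set S) → ∀ (t : T) (h : x * (t : S) * x⁻¹ ∈ B),
      σ ⟨x * t * x⁻¹, h⟩ = σ ⟨t, hTB t.2⟩) :
    Nat.card (conjSet B T (Subgroup.normalizer (T : Set S)) σ) ∣ X.relIndex (Subgroup.normalizer (T : Set S)) := by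
  let act := actT T
  set s : T →* ℂˣ := σ.comp (Subgroup.inclusion hTB) with hs
  have hsmul : ∀ (n : ↥(Subgroup.normalizer (T : Set S))) (τ : T →* ℂˣ) (t : T), (n • τ) t = τ (cT n t) :=
    fun _ _ _ => rfl
  have horb : MulAction.orbit ↥(Subgroup.normalizer (T : Set S)) s =
      conjSet B T (Subgroup.normalizer (T : Set S)) σ := by
    ext τ
    constructor
    · rintro ⟨n, rfl⟩
      refine ⟨(n : S)⁻¹, (Subgroup.normalizer (T : Set S)).inv_mem n.2, fun t h => ?_⟩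
      show (n • s) t = _
      rw [hsmul]
      show σ ⟨(n : S)⁻¹ * t * n, _⟩ = _
      congr 1
      apply Subtype.ext
      show (n : S)⁻¹ * t * n = (n : S)⁻¹ * t * (n : S)⁻¹⁻¹
      rw [inv_inv]
    · rintro ⟨n, hn, h1⟩
      refine ⟨⟨n, hn⟩⁻¹, ?_⟩
      ext t
      have h2 := h1 t (hTB (mem_normalizer_conj ⟨n, hn⟩ t.2))
      rw [h2]
      show ((((⟨n, hn⟩ : ↥(Subgroup.normalizer (T : Set S)))⁻¹ • s) t : ℂˣ) : ℂ) = _
      rw [hsmul]
      show ((σ ⟨(n⁻¹)⁻¹ * t * n⁻¹, _⟩ : ℂˣ) : ℂ) = _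
      congr 2
      apply Subtype.ext
      show (n⁻¹)⁻¹ * (t : S) * n⁻¹ = n * t * n⁻¹
      rw [inv_inv]
  rw [← horb, Nat.card_coe_set_eq, ← MulAction.index_stabilizer]
  apply Subgroup.index_dvd_of_le
  intro x hx
  rw [MulAction.mem_stabilizer_iff]
  have hx' : (x : S)⁻¹ ∈ X := X.inv_mem (Subgroup.mem_subgroupOf.1 hx)
  ext t
  rw [hsmul]
  show ((σ ⟨(x : S)⁻¹ * t * x, _⟩ : ℂˣ) : ℂ) = σ ⟨t, hTB t.2⟩
  have e : (x : S)⁻¹ * t * (x : S)⁻¹⁻¹ = (x : S)⁻¹ * t * x := by rw [inv_inv]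
  have h3 : (x : S)⁻¹ * t * (x : S)⁻¹⁻¹ ∈ B := by
    rw [e]
    exact hTB (cT x t).2
  rw [← hX _ hx' ((Subgroup.normalizer (T : Set S)).inv_mem x.2) t h3]
  congr 2
  exact Subtype.ext e.symm

theorem exists_sigma [Finite S] {p : ℕ} {U T : Subgroup S} (h : TorAut p U T) {𝓜 : Set (Subgroup S)}
    {Q : Sylow 2 S} {A : Subgroup (MulAut S)} (c : Ctx Q A) (n : NCtx Q A U T 𝓜)
    (f : (Q : Subgroup S) →* ℂˣ) (hf : Inv c f) (hne : ∃ x, f x ^ 2 ≠ 1) (hreal : RealOnT U T 𝓜) :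
    ∃ σ : ↥(U ⊔ T) →* ℂˣ, TorChar (U ⊔ T) U T (Subgroup.normalizer (T : Set S)) σ ∧
      (∀ b ∈ A, (∀ u ∈ U, b u ∈ U) → (∀ t ∈ T, b t ∈ T) → ∀ (x : ↥(U ⊔ T)) (hx : b x ∈ U ⊔ T),
        σ ⟨b x, hx⟩ = σ x) ∧
      (∀ (t : S) (ht : t ∈ T) (hQ : t ∈ (Q : Subgroup S)), σ ⟨t, (le_sup_right : T ≤ U ⊔ T) ht⟩ = f ⟨t, hQ⟩) := by
  obtain ⟨π, hπ⟩ := exists_proj h
  have hTB : T ≤ U ⊔ T := le_sup_right
  have hUB : U ≤ U ⊔ T := le_sup_left
  obtain ⟨k, a, hk⟩ := exists_exp.{u} (m := Nat.card T) Nat.card_pos.ne'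
  have hpow : ∀ t ∈ T, t ^ Nat.card T = 1 := by
    intro t ht
    have := pow_card_eq_one' (x := (⟨t, ht⟩ : T))
    exact congrArg Subtype.val this
  have hkQ : ∀ t ∈ T, t ^ k ∈ (Q : Subgroup S) := fun t ht =>
    n.sylT _ (T.pow_mem ht k) ⟨a, (hk t (hpow t ht)).1⟩
  -- the character of `T`
  let s : T →* ℂˣ := MonoidHom.mk' (fun t => f ⟨(t : S) ^ k, hkQ t t.2⟩) (by
    intro x y
    rw [← map_mul]
    congr 1
    apply Subtype.ext
    show ((x : S) * y) ^ k = (x : S) ^ k * (y : S) ^ k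
    exact (show Commute (x : S) y from h.comm x x.2 y y.2).mul_pow k)
  have hs : ∀ t : T, s t = f ⟨(t : S) ^ k, hkQ t t.2⟩ := fun _ => rfl
  let σ : ↥(U ⊔ T) →* ℂˣ := s.comp π
  have hπU : ∀ (u : S) (hu : u ∈ U) (h' : u ∈ U ⊔ T), π ⟨u, h'⟩ = 1 := by
    intro u hu h'
    apply proj_unique h (hπ ⟨u, h'⟩)
    show u * (1 : S)⁻¹ ∈ U
    rwa [inv_one, mul_one]
  have hπT : ∀ (t : S) (ht : t ∈ T) (h' : t ∈ U ⊔ T), π ⟨t, h'⟩ = ⟨t, ht⟩ := by
    intro t ht h'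
    apply proj_unique h (hπ ⟨t, h'⟩)
    show t * t⁻¹ ∈ U
    rw [mul_inv_cancel]
    exact U.one_mem
  have hσT : ∀ (t : S) (ht : t ∈ T) (h' : t ∈ U ⊔ T), σ ⟨t, h'⟩ = f ⟨t ^ k, hkQ t ht⟩ := by
    intro t ht h'
    show s (π ⟨t, h'⟩) = _
    rw [hπT t ht]
    exact hs ⟨t, ht⟩
  have hσf : ∀ (t : S) (ht : t ∈ T) (hQ : t ∈ (Q : Subgroup S)) (h' : t ∈ U ⊔ T), σ ⟨t, h'⟩ = f ⟨t, hQ⟩ := by
    intro t ht hQ h'
    rw [hσT t ht]
    congr 1
    apply Subtype.ext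
    obtain ⟨j, hj⟩ := Q.isPGroup' ⟨t, hQ⟩
    exact (hk t (hpow t ht)).2 j (congrArg Subtype.val hj)
  refine ⟨σ, ⟨?_, ⟨a, ?_⟩, ?_, ?_⟩, ?_, fun t ht hQ => hσf t ht hQ _⟩
  · intro u hu h'
    show s (π ⟨u, h'⟩) = 1
    rw [hπU u hu, map_one]
  · intro b
    show s (π b) ^ 2 ^ a = 1
    rw [hs, ← map_pow]
    have : (⟨((π b : T) : S) ^ k, hkQ _ (π b).2⟩ : (Q : Subgroup S)) ^ 2 ^ a = 1 :=
      Subtype.ext (hk _ (hpow _ (π b).2)).1
    rw [this, map_one]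
  · -- odd number of conjugates
    have h1 := card_conjSet_dvd hTB σ (X := (Q : Subgroup S) ⊓ Subgroup.normalizer (T : Set S)) (by
      intro x hx hxN t h'
      have hxt : x * (t : S) * x⁻¹ ∈ T := (Subgroup.mem_normalizer_iff.1 hxN t).1 t.2
      rw [hσT _ hxt h', hσT t t.2]
      have e : (⟨(x * (t : S) * x⁻¹) ^ k, hkQ _ hxt⟩ : (Q : Subgroup S)) =
          ⟨x, hx.1⟩ * ⟨(t : S) ^ k, hkQ t t.2⟩ * ⟨x, hx.1⟩⁻¹ := by
        apply Subtype.ext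
        show (x * (t : S) * x⁻¹) ^ k = x * (t : S) ^ k * x⁻¹
        exact conj_pow
      rw [e, map_mul, map_mul, map_inv, mul_comm, ← mul_assoc, inv_mul_cancel, one_mul])
    exact n.sylN.of_dvd_nat h1
  · -- not real
    by_contra hcon
    push Not at hcon
    obtain ⟨x, hx⟩ := hne
    apply hx
    apply hreal Q A n f
    intro y hy
    rw [← hσf y hy y.2 (hTB hy)]
    exact hcon _
  · intro b hb hbU hbT x hx
    show s (π ⟨b x, hx⟩) = s (π x)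
    have h1 : π ⟨b x, hx⟩ = ⟨b (π x : T), hbT _ (π x).2⟩ := by
      apply proj_unique h (hπ ⟨b x, hx⟩)
      show b x * (b (π x : T))⁻¹ ∈ U
      rw [← map_inv, ← map_mul]
      exact hbU _ (hπ x)
    rw [h1, hs, hs]
    have h2 := hf b hb (((π x : T) : S) ^ k) (hkQ _ (π x).2)
    rw [← h2]
    congr 1
    apply Subtype.ext
    show (b (π x : T)) ^ k = b (((π x : T) : S) ^ k)
    rw [map_pow]

end sigma

/-! ### Invariance -/

section inva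
variable {S : Type u} [Group S]

theorem NN_iff {B : Subgroup S} {α : MulAut S} (h : α ∈ NN B) (x : S) : x ∈ B ↔ α x ∈ B := by
  have h1 := mem_NN'.1 h
  constructor
  · intro hx
    rw [← h1]
    exact Subgroup.smul_mem_pointwise_smul x α B hx
  · intro hx
    rw [← h1] at hx
    exact Subgroup.smul_mem_pointwise_smul_iff.1 hx

theorem NN_sup [Finite S] {U T : Subgroup S} {α : MulAut S} (h : ∀ u ∈ U, α u ∈ U) (h' : ∀ t ∈ T, α t ∈ T) :
    α ∈ NN (U ⊔ T) := by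
  rw [mem_NN]
  have h1 : U ⊔ T ≤ (U ⊔ T).comap α.toMonoidHom :=
    sup_le (fun u hu => Subgroup.mem_sup_left (h u hu)) (fun t ht => Subgroup.mem_sup_right (h' t ht))
  exact fun x hx => h1 hx

/-- restriction of an automorphism -/
def resA {U : Subgroup S} {b : MulAut S} (hb : ∀ u ∈ U, b u ∈ U) : U →* U :=
  (b.toMonoidHom.comp U.subtype).codRestrict U (fun u => hb u u.2)

theorem coe_resA {U : Subgroup S} {b : MulAut S} (hb : ∀ u ∈ U, b u ∈ U) (u : U) : ((resA hb u : U) : S) = b u := rfl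

theorem indSigma_inv [Fintype S] {U T : Subgroup S} {𝓜 : Set (Subgroup S)} {Q : Sylow 2 S}
    {A : Subgroup (MulAut S)} (n : NCtx Q A U T 𝓜) {σ : ↥(U ⊔ T) →* ℂˣ}
    (hσ : ∀ b ∈ A, (∀ u ∈ U, b u ∈ U) → (∀ t ∈ T, b t ∈ T) → ∀ (x : ↥(U ⊔ T)) (hx : b x ∈ U ⊔ T),
        σ ⟨b x, hx⟩ = σ x) {a : MulAut S} (ha : a ∈ A) (g : S) :
    indFun (U ⊔ T) (fun b => (σ b : ℂ)) (a g) = indFun (U ⊔ T) (fun b => (σ b : ℂ)) g := by
  obtain ⟨x, hx, b, hb, rfl, hbU, hbT⟩ := n.dec a ha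
  rw [MulAut.mul_apply, indFun_conj]
  apply indFun_aut _ _ b (NN_iff (NN_sup hbU hbT))
  intro y hy
  show ((σ ⟨b y, hy⟩ : ℂˣ) : ℂ) = σ y
  rw [hσ b hb hbU hbT y hy]

theorem indPsi [Fintype S] {U : Subgroup S} {b : MulAut S} (hb : ∀ u ∈ U, b u ∈ U) (ψ : U →* ℂˣ) (g : S) :
    indFun U (fun u => (ψ u : ℂ)) (b g) = indFun U (fun u => ((ψ.comp (resA hb)) u : ℂ)) g :=
  indFun_aut _ _ b (NN_iff (mem_NN.2 hb)) (fun _ _ => rfl) g

theorem indFun_torb [Fintype S] {U T : Subgroup S} (hT : ∀ t ∈ T, ∀ u ∈ U, t * u * t⁻¹ ∈ U) {ψ ψ' : U →* ℂˣ}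
    (h : ψ' ∈ torb U T ψ) : indFun U (fun u => (ψ' u : ℂ)) = indFun U (fun u => (ψ u : ℂ)) := by
  obtain ⟨t, ht, h1⟩ := h
  funext g
  rw [← indFun_conj (fun u => (ψ u : ℂ)) t g]
  symm
  apply indFun_aut
  · intro x
    have h2 : t ∈ Subgroup.normalizer (U : Set S) := by
      rw [← conj_mem_NN, mem_NN]
      exact hT t ht
    exact Subgroup.mem_normalizer_iff.1 h2 x
  · intro x hx
    show ((ψ ⟨MulAut.conj t x, hx⟩ : ℂˣ) : ℂ) = ψ' x
    rw [h1 x hx]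
    rfl

theorem mem_torb_self {U T : Subgroup S} (ψ : U →* ℂˣ) : ψ ∈ torb U T ψ := by
  refine ⟨1, T.one_mem, fun u h => ?_⟩
  congr 1
  apply Subtype.ext
  show (u : S) = 1 * u * 1⁻¹
  group

/-- the image of an orbit -/
theorem image_torb [Finite S] {U T : Subgroup S} (hT : ∀ t ∈ T, ∀ u ∈ U, t * u * t⁻¹ ∈ U) {b : MulAut S}
    (hb : ∀ u ∈ U, b u ∈ U) (hbT : b ∈ NN T) (ψ : U →* ℂˣ) :
    (fun φ : U →* ℂˣ => φ.comp (resA hb)) '' torb U T ψ = torb U T (ψ.comp (resA hb)) := by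
  ext ψ'
  constructor
  · rintro ⟨φ, ⟨t, ht, h1⟩, rfl⟩
    have ht' : b⁻¹ t ∈ T := (NN_iff ((NN T).inv_mem hbT) t).1 ht
    refine ⟨b⁻¹ t, ht', fun u hu => ?_⟩
    show φ (resA hb u) = ψ (resA hb ⟨b⁻¹ t * u * (b⁻¹ t)⁻¹, hu⟩)
    have h2 : t * (b u) * t⁻¹ ∈ U := hT t ht _ (hb u u.2)
    rw [h1 (resA hb u) h2]
    congr 1
    apply Subtype.ext
    show t * b u * t⁻¹ = b (b⁻¹ t * u * (b⁻¹ t)⁻¹)
    rw [map_mul, map_mul, map_inv, MulAut.apply_inv_self]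
  · rintro ⟨t, ht, h1⟩
    have hbinv : ∀ u ∈ U, b⁻¹ u ∈ U := fun u hu => (NN_iff ((NN U).inv_mem (mem_NN.2 hb)) u).1 hu
    have ht' : b t ∈ T := (NN_iff hbT t).1 ht
    refine ⟨ψ'.comp (resA hbinv), ⟨b t, ht', fun u hu => ?_⟩, ?_⟩
    · show ψ' (resA hbinv u) = _
      have h2 : t * (b⁻¹ u) * t⁻¹ ∈ U := hT t ht _ (hbinv u u.2)
      rw [h1 (resA hbinv u) h2]
      show ψ (resA hb ⟨t * b⁻¹ u * t⁻¹, h2⟩) = _
      congr 1
      apply Subtype.ext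
      show b (t * b⁻¹ u * t⁻¹) = b t * u * (b t)⁻¹
      rw [map_mul, map_mul, map_inv, MulAut.apply_inv_self]
    · ext u
      show ((ψ' (resA hbinv (resA hb u)) : ℂˣ) : ℂ) = ψ' u
      congr 2
      apply Subtype.ext
      show b⁻¹ (b u) = u
      rw [MulAut.inv_apply_self]

/-- a fixed orbit -/
theorem exists_fixed_orbit [Finite S] {U T : Subgroup S} (hT : ∀ t ∈ T, ∀ u ∈ U, t * u * t⁻¹ ∈ U)
    {Ψ : Set (U →* ℂˣ)} (hΨ : PsiStable U T Ψ) (hodd : Odd (Nat.card (torb U T '' Ψ)))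
    {A : Subgroup (MulAut S)} (hA : IsPGroup 2 A) :
    ∃ ψ ∈ Ψ, ∀ b ∈ A, ∀ (hb : ∀ u ∈ U, b u ∈ U), (∀ t ∈ T, b t ∈ T) → ψ.comp (resA hb) ∈ torb U T ψ := by
  set AT : Subgroup (MulAut S) := A ⊓ (NN U ⊓ NN T) with hAT
  have hATp : IsPGroup 2 AT := hA.to_le inf_le_left
  have hbU : ∀ b : AT, ∀ u ∈ U, (b : MulAut S)⁻¹ u ∈ U := fun b u hu =>
    mem_NN.1 ((NN U).inv_mem b.2.2.1) u hu
  have hbT : ∀ b : AT, (b : MulAut S)⁻¹ ∈ NN T := fun b => (NN T).inv_mem b.2.2.2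
  let act : MulAction AT (torb U T '' Ψ : Set (Set (U →* ℂˣ))) :=
    { smul := fun b o => ⟨(fun φ : U →* ℂˣ => φ.comp (resA (hbU b))) '' (o : Set (U →* ℂˣ)), by
        obtain ⟨_, ψ, hψ, rfl⟩ := o
        refine ⟨ψ.comp (resA (hbU b)), ?_, ?_⟩
        · exact hΨ _ (hbU b) (mem_NN.1 (hbT b)) ψ hψ _ (fun u h => rfl)
        · exact (image_torb hT (hbU b) (hbT b) ψ).symm⟩
      one_smul := by
        rintro ⟨o, ho⟩
        apply Subtype.ext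
        show (fun φ : U →* ℂˣ => φ.comp (resA (hbU 1))) '' o = o
        have h1 : (fun φ : U →* ℂˣ => φ.comp (resA (hbU 1))) = id := by
          funext φ
          ext u
          show ((φ (resA (hbU 1) u) : ℂˣ) : ℂ) = φ u
          rfl
        rw [h1, Set.image_id]
      mul_smul := by
        rintro b b' ⟨o, ho⟩
        apply Subtype.ext
        show (fun φ : U →* ℂˣ => φ.comp (resA (hbU (b * b')))) '' o =
          (fun φ : U →* ℂˣ => φ.comp (resA (hbU b))) '' ((fun φ : U →* ℂˣ => φ.comp (resA (hbU b'))) '' o)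
        rw [Set.image_image]
        congr 1 }
  have h1 : ¬ 2 ∣ Nat.card (torb U T '' Ψ : Set (Set (U →* ℂˣ))) := by
    rw [← even_iff_two_dvd, Nat.not_even_iff_odd]
    exact hodd
  obtain ⟨⟨_, ψ, hψ, rfl⟩, ho⟩ := hATp.nonempty_fixed_point_of_prime_not_dvd_card _ h1
  refine ⟨ψ, hψ, ?_⟩
  intro b hb hbU' hbT'
  have hbAT : b⁻¹ ∈ AT := ⟨A.inv_mem hb, (NN U).inv_mem (mem_NN.2 hbU'), (NN T).inv_mem (mem_NN.2 hbT')⟩
  have h2 := congrArg Subtype.val (ho ⟨b⁻¹, hbAT⟩)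
  have h3 : (fun φ : U →* ℂˣ => φ.comp (resA (hbU ⟨b⁻¹, hbAT⟩))) '' torb U T ψ = torb U T ψ := h2
  rw [← h3]
  refine ⟨ψ, mem_torb_self ψ, ?_⟩
  ext u
  show ((ψ (resA (hbU ⟨b⁻¹, hbAT⟩) u) : ℂˣ) : ℂ) = ψ (resA hbU' u)
  rfl

end inva

/-! ### The main theorems -/

section main
variable {S : Type u} [Group S] [Fintype S]

theorem classInner_inv {F : S → ℂ} {a : MulAut S} (hF : ∀ g, F (a g) = F g) (θ : S → ℂ) :
    classInner F (θ ∘ a) = classInner F θ := by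
  have h1 : F ∘ a = F := funext hF
  conv_lhs => rw [← h1]
  exact classInner_aut F θ a

/-- a fixed member of an odd stable set of irreducible characters -/
theorem exists_fixed_irr {A : Subgroup (MulAut S)} (hA : IsPGroup 2 A) (C : Set (IrrCharacter S))
    (hC : ∀ a ∈ A, ∀ χ ∈ C, (⟨(χ : S → ℂ) ∘ a, isIrr_aut χ a⟩ : IrrCharacter S) ∈ C) (hodd : Odd (Nat.card C)) :
    ∃ χ ∈ C, ∀ a ∈ A, ∀ g : S, (χ : S → ℂ) (a g) = (χ : S → ℂ) g := by
  let act : MulAction A C :=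
    { smul := fun a χ => ⟨⟨(χ.1 : S → ℂ) ∘ ((a : MulAut S)⁻¹ : MulAut S), isIrr_aut χ.1 _⟩,
        hC _ (A.inv_mem a.2) χ.1 χ.2⟩
      one_smul := by
        intro χ
        apply Subtype.ext
        apply Subtype.ext
        show (χ.1 : S → ℂ) ∘ ((1 : MulAut S)⁻¹ : MulAut S) = (χ.1 : S → ℂ)
        rw [inv_one]
        rfl
      mul_smul := by
        intro a b χ
        apply Subtype.ext
        apply Subtype.ext
        show (χ.1 : S → ℂ) ∘ (((a : MulAut S) * b)⁻¹ : MulAut S) =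
          ((χ.1 : S → ℂ) ∘ ((b : MulAut S)⁻¹ : MulAut S)) ∘ ((a : MulAut S)⁻¹ : MulAut S)
        rw [mul_inv_rev]
        rfl }
  have h1 : ¬ 2 ∣ Nat.card C := by
    rw [← even_iff_two_dvd, Nat.not_even_iff_odd]
    exact hodd
  obtain ⟨χ, hχ⟩ := hA.nonempty_fixed_point_of_prime_not_dvd_card C h1
  refine ⟨χ.1, χ.2, ?_⟩
  intro a ha g
  have h5 := hχ ⟨a⁻¹, A.inv_mem ha⟩
  have h6 : (χ.1 : S → ℂ) ∘ (((a⁻¹ : MulAut S))⁻¹ : MulAut S) = (χ.1 : S → ℂ) :=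
    congrArg (fun y : C => (y.1 : S → ℂ)) h5
  rw [inv_inv] at h6
  exact congrFun h6 g

/-- **TL-2, main version.** -/
theorem row_of_toral {p : ℕ} {U T : Subgroup S} (h : TorAut p U T) (Ψ : Set (U →* ℂˣ)) (hΨ : PsiStable U T Ψ)
    (hodd : Odd (Nat.card (torb U T '' Ψ))) (𝓜 : Set (Subgroup S)) (h𝓜 : Frames T 𝓜) (hreal : RealOnT U T 𝓜)
    (htl : ∀ M : Ideal AlgInt, IsPModular 2 M → ∀ σ : ↥(U ⊔ T) →* ℂˣ,
      TorChar (U ⊔ T) U T (Subgroup.normalizer (T : Set S)) σ → ∀ ψ ∈ Ψ, TorConcl M (U ⊔ T) U σ ψ) :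
    Row S := by
  apply row_of_normalised h h𝓜
  intro M hM Q A c n f hf hne
  obtain ⟨σ, hσ, hσA, -⟩ := exists_sigma h c n f hf hne hreal
  have hT : ∀ t ∈ T, ∀ u ∈ U, t * u * t⁻¹ ∈ U := fun t ht u hu => T_norm h ht hu
  obtain ⟨ψ, hψ, hψA⟩ := exists_fixed_orbit hT hΨ hodd c.isP
  obtain ⟨χ, h1, h2, h3, h4, h5, h6⟩ := htl M hM σ hσ ψ hψ
  refine ⟨χ, h5, h4, ?_, h6⟩
  intro a ha g
  -- `χ ∘ a` is again a common constituent
  have hF : ∀ g, indFun (U ⊔ T) (fun b => (σ b : ℂ)) (a g) = indFun (U ⊔ T) (fun b => (σ b : ℂ)) g :=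
    fun g => indSigma_inv n hσA ha g
  have hG : ∀ g, indFun U (fun u => (ψ u : ℂ)) (a g) = indFun U (fun u => (ψ u : ℂ)) g := by
    intro g
    obtain ⟨x, hx, b, hb, rfl, hbU, hbT⟩ := n.dec a ha
    rw [MulAut.mul_apply, indFun_conj, indPsi hbU, indFun_torb hT (hψA b hb hbU hbT)]
  have h7 := h3 ⟨(χ : S → ℂ) ∘ a, isIrr_aut χ a⟩ (by
    show classInner _ ((χ : S → ℂ) ∘ a) ≠ 0
    rw [classInner_inv hF]
    exact h1) (by
    show classInner _ ((χ : S → ℂ) ∘ a) ≠ 0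
    rw [classInner_inv hG]
    exact h2)
  have h8 : (χ : S → ℂ) ∘ a = (χ : S → ℂ) := congrArg Subtype.val h7
  exact congrFun h8 g

/-- **TL-2, second version**: the set of all common constituents of `Ind_B σ` and the `Ind_U ψ`, `ψ ∈ Ψ`. -/
theorem row_of_toral_set {p : ℕ} {U T : Subgroup S} (h : TorAut p U T) (Ψ : Set (U →* ℂˣ)) (hΨ : PsiStable U T Ψ)
    (𝓜 : Set (Subgroup S)) (h𝓜 : Frames T 𝓜) (hreal : RealOnT U T 𝓜)
    (htl : ∀ M : Ideal AlgInt, IsPModular 2 M → ∀ σ : ↥(U ⊔ T) →* ℂˣ,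
      TorChar (U ⊔ T) U T (Subgroup.normalizer (T : Set S)) σ →
      Odd (Nat.card {χ : IrrCharacter S // classInner (indFun (U ⊔ T) (fun b => (σ b : ℂ))) (χ : S → ℂ) ≠ 0 ∧
        ∃ ψ ∈ Ψ, classInner (indFun U (fun u => (ψ u : ℂ))) (χ : S → ℂ) ≠ 0}) ∧
      ∀ χ : IrrCharacter S, classInner (indFun (U ⊔ T) (fun b => (σ b : ℂ))) (χ : S → ℂ) ≠ 0 →
        (∃ ψ ∈ Ψ, classInner (indFun U (fun u => (ψ u : ℂ))) (χ : S → ℂ) ≠ 0) →
        Odd (charDegree (χ : S → ℂ)) ∧ χ ∈ principalBlock M S ∧ ∃ g, ((χ : S → ℂ) g).im ≠ 0) :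
    Row S := by
  apply row_of_normalised h h𝓜
  intro M hM Q A c n f hf hne
  obtain ⟨σ, hσ, hσA, -⟩ := exists_sigma h c n f hf hne hreal
  obtain ⟨hodd, hgood⟩ := htl M hM σ hσ
  have hF : ∀ a ∈ A, ∀ g, indFun (U ⊔ T) (fun b => (σ b : ℂ)) (a g) = indFun (U ⊔ T) (fun b => (σ b : ℂ)) g :=
    fun a ha g => indSigma_inv n hσA ha g
  have hG : ∀ a ∈ A, ∀ χ : IrrCharacter S, (∃ ψ ∈ Ψ, classInner (indFun U (fun u => (ψ u : ℂ))) (χ : S → ℂ) ≠ 0) →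
      ∃ ψ ∈ Ψ, classInner (indFun U (fun u => (ψ u : ℂ))) ((χ : S → ℂ) ∘ a) ≠ 0 := by
    rintro a ha χ ⟨ψ, hψ, h1⟩
    obtain ⟨x, hx, b, hb, rfl, hbU, hbT⟩ := n.dec a ha
    refine ⟨ψ.comp (resA hbU), hΨ b hbU hbT ψ hψ _ (fun u h => rfl), ?_⟩
    have h2 : indFun U (fun u => ((ψ.comp (resA hbU)) u : ℂ)) =
        indFun U (fun u => (ψ u : ℂ)) ∘ (MulAut.conj x * b : MulAut S) := by
      funext g
      show _ = indFun U (fun u => (ψ u : ℂ)) ((MulAut.conj x * b) g)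
      rw [MulAut.mul_apply, indFun_conj, indPsi hbU]
    rw [h2, classInner_aut]
    exact h1
  obtain ⟨χ, hχ, hχA⟩ := exists_fixed_irr c.isP
    {χ : IrrCharacter S | classInner (indFun (U ⊔ T) (fun b => (σ b : ℂ))) (χ : S → ℂ) ≠ 0 ∧
      ∃ ψ ∈ Ψ, classInner (indFun U (fun u => (ψ u : ℂ))) (χ : S → ℂ) ≠ 0} (by
    rintro a ha χ ⟨h1, h2⟩
    refine ⟨?_, hG a ha χ h2⟩
    show classInner _ ((χ : S → ℂ) ∘ a) ≠ 0
    rw [classInner_inv (hF a ha)]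
    exact h1) hodd
  obtain ⟨h2, h3, h4⟩ := hgood χ hχ.1 hχ.2
  exact ⟨χ, h3, h2, hχA, h4⟩

end main

theorem stRowOfToral : StRowOfToral.{u} := by
  intro S _ _ p U T h Ψ hΨ hodd 𝓜 h𝓜 hreal htl
  exact row_of_toral h Ψ hΨ hodd 𝓜 h𝓜 hreal htl

theorem stRowOfToralSet : StRowOfToralSet.{u} := by
  intro S _ _ p U T h Ψ hΨ 𝓜 h𝓜 hreal htl
  exact row_of_toral_set h Ψ hΨ 𝓜 h𝓜 hreal htl

end Cfsg.Agent.H55.Sd
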